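import Groth.Agent.H71.Strict.Free
import Groth.Agent.H71.QCoh.FPCriterion
import Groth.Agent.H44.FpqcFP
import Groth.Agent.H44.LocFree
import Groth.Agent.S8873
import Groth.Prelude.Def_CInt
import Groth.Agent.H18.STL.Basic

/-!
helper71: blowing up in `Fit_r(F)` for a finitely presented module `F` which is locally free of rank
`r` over a schematically dense open `U`: admissibility, local freeness of the strict transform,
finite presentation of the kernel.
-/

set_option autoImplicit false
universe u
open CategoryTheory CategoryTheory.Limits AlgebraicGeometry TopologicalSpace Opposite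

namespace Groth.Agent.H71.Strict

open Groth.Agent.H18 Groth.Agent.H92.LocFreeRank

variable {X : Scheme.{u}}

/-- ideal sheaves which agree after restriction to an open `U` agree on the affine opens inside `U` -/
theorem ideal_eq_of_comap_ι_eq (J J' : X.IdealSheafData) (U : X.Opens)
    (h : J.comap U.ι = J'.comap U.ι) (W : X.affineOpens) (hW : W.1 ≤ U) :
    J.ideal W = J'.ideal W := by
  have h1 : J.comap W.1.ι = J'.comap W.1.ι := by
    rw [← X.homOfLE_ι hW, Scheme.IdealSheafData.comap_comp, Scheme.IdealSheafData.comap_comp, h]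
  have h2 := Groth.Agent.H44.ideal_comap_ι_top J W
  have h3 := Groth.Agent.H44.ideal_comap_ι_top J' W
  rw [h1, h3] at h2
  have hsurj : Function.Surjective W.1.topIso.hom.hom :=
    (ConcreteCategory.bijective_of_isIso W.1.topIso.hom).2
  rw [← Ideal.map_comap_of_surjective _ hsurj (J.ideal W),
    ← Ideal.map_comap_of_surjective _ hsurj (J'.ideal W), h2]

/-- an ideal sheaf which vanishes on a schematically dense open vanishes -/
theorem eq_bot_of_comap_ι_eq_bot (J : X.IdealSheafData) (U : X.Opens)
    (hU : CInt.IsSchematicallyDense U) (h : J.comap U.ι = ⊥) : J = ⊥ := by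
  rw [eq_bot_iff]
  intro V d hd
  rw [Scheme.IdealSheafData.ideal_bot, Pi.bot_apply, Ideal.mem_bot]
  apply hU V.1
  rw [map_zero]
  refine Groth.Agent.H18.STL.fun_eq_of_locally_eq _ _ (fun x hx => ?_)
  obtain ⟨W, hW, hxW, hWle⟩ := exists_isAffineOpen_mem_and_subset (x := x) (U := V.1 ⊓ U) hx
  refine ⟨W, hWle, hxW, ?_⟩
  have h1 : J.ideal ⟨W, hW⟩ = ⊥ := by
    have := ideal_eq_of_comap_ι_eq J ⊥ U (by rw [h, Scheme.IdealSheafData.comap_bot]) ⟨W, hW⟩
      (fun y hy => (hWle hy).2)
    rw [this]
    rfl
  have hWV : W ≤ V.1 := fun y hy => (hWle hy).1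
  have h2 : X.presheaf.map (homOfLE hWV).op d ∈ J.ideal ⟨W, hW⟩ := by
    rw [← J.map_ideal (U := ⟨W, hW⟩) (V := V) hWV]
    exact Ideal.mem_map_of_mem _ hd
  rw [h1] at h2
  have h2' : X.presheaf.map (homOfLE hWV).op d = 0 := h2
  rw [Groth.Agent.H18.PUP.rres_rres, map_zero]
  exact h2'

/-- the kernel of a surjection from a finitely presented module onto a projective module is
finitely presented -/
theorem finitePresentation_ker_of_projective {R N P : Type*} [CommRing R] [AddCommGroup N]
    [Module R N] [AddCommGroup P] [Module R P] [Module.FinitePresentation R N]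
    [Module.Projective R P] (φ : N →ₗ[R] P) (hφ : Function.Surjective φ) :
    Module.FinitePresentation R (LinearMap.ker φ) := by
  obtain ⟨s, hs⟩ := Module.projective_lifting_property φ LinearMap.id hφ
  have hs' : ∀ p, φ (s p) = p := fun p => LinearMap.congr_fun hs p
  let ρ : N →ₗ[R] LinearMap.ker φ := LinearMap.codRestrict (LinearMap.ker φ)
    (LinearMap.id - s ∘ₗ φ) (fun n => by
      rw [LinearMap.mem_ker, LinearMap.sub_apply, map_sub, LinearMap.id_apply,
        LinearMap.comp_apply, hs', sub_self])
  have hρ : Function.Surjective ρ := fun k => ⟨k.1, Subtype.ext (by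
    change k.1 - s (φ k.1) = k.1
    rw [LinearMap.mem_ker.mp k.2, map_zero, sub_zero])⟩
  refine Module.finitePresentation_of_surjective ρ hρ ?_
  have hker : LinearMap.ker ρ = LinearMap.range s := by
    ext n
    rw [LinearMap.mem_ker, LinearMap.mem_range]
    constructor
    · intro hn
      have h1 : n - s (φ n) = 0 := congrArg Subtype.val hn
      exact ⟨φ n, (sub_eq_zero.mp h1).symm⟩
    · rintro ⟨p, rfl⟩
      apply Subtype.ext
      change s p - s (φ (s p)) = 0
      rw [hs', sub_self]
  haveI : Module.Finite R P := Module.Finite.of_surjective φ hφ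
  rw [hker, LinearMap.range_eq_map]
  exact Submodule.FG.map s Module.Finite.fg_top

/-- **blowing up in `Fit_r(F)`, `F` finitely presented and locally free of rank `r` over a
schematically dense open** -/
theorem main (X : Scheme.{u}) (F : X.Modules) (hF : CohB1.IsFP F)
    (U : X.Opens) (hU : CInt.IsSchematicallyDense U) (r : ℕ)
    (hfree : FlatMod.IsFinLocFreeOfRank r (F.restrict U.ι)) :
    BlowUp.IsAdmissibleFor U (Fitt.sheafIdeal F r) ∧
      ∀ (X' : Scheme.{u}) (b : X' ⟶ X), BlowUp.IsBlowUp b (Fitt.sheafIdeal F r) →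
        ∀ (G : X'.Modules) (π : (Scheme.Modules.pullback b).obj F ⟶ G),
          BlowUp.IsStrictTransform b (Fitt.sheafIdeal F r) F G π →
          FlatMod.IsFinLocFreeOfRank r G ∧ CohB1.IsFP (kernel π) ∧
            IsZero ((kernel π).restrict (b ⁻¹ᵁ U).ι) := by
  haveI : SheafOfModules.IsFinitePresentation (R := X.ringCatSheaf) F := hF
  haveI : F.IsQuasicoherent := inferInstance
  haveI : SheafOfModules.IsFiniteType (R := X.ringCatSheaf) F := inferInstance
  have hloc : FlatMod.IsFinLocFreeOfRank r ((Scheme.Modules.pullback U.ι).obj F) := by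
    intro x
    obtain ⟨U', hxU, ⟨e⟩⟩ := hfree x
    exact ⟨U', hxU, ⟨(Scheme.Modules.restrictFunctor U'.ι).mapIso
      ((Scheme.Modules.restrictFunctorIsoPullback U.ι).app F).symm ≪≫ e⟩⟩
  obtain ⟨htop, hlow⟩ :=
    (Groth.Agent.H71.FittStrat.isFinLocFreeOfRank_pullback_iff F r U.ι).mp hloc
  have hlow' : Groth.Agent.H71.FittStrat.lowerIdeal F r = ⊥ :=
    eq_bot_of_comap_ι_eq_bot _ U hU hlow
  have hFj : ∀ j, j < r → Fitt.sheafIdeal F j = ⊥ := fun j hj => by
    have hr : r ≠ 0 := by omega
    unfold Groth.Agent.H71.FittStrat.lowerIdeal at hlow'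
    rw [if_neg hr] at hlow'
    rw [eq_bot_iff, ← hlow']
    exact Groth.Agent.H71.FittStrat.sheafIdeal_mono F (by omega)
  refine ⟨⟨Groth.Agent.S8873.result X F hF r, ?_⟩, ?_⟩
  · rw [Set.disjoint_left]
    intro x hxs hxU
    have h1 : (⟨x, hxU⟩ : U) ∈ ((Fitt.sheafIdeal F r).comap U.ι).support := by
      rw [Scheme.IdealSheafData.support_comap]
      exact hxs
    rw [htop, Scheme.IdealSheafData.support_top] at h1
    exact h1
  · intro X' b hb G π hG
    haveI : SheafOfModules.IsFinitePresentation (R := X'.ringCatSheaf)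
        ((Scheme.Modules.pullback b).obj F) := Groth.Agent.H44.isFinitePresentation_pullback b F
    haveI : ((Scheme.Modules.pullback b).obj F).IsQuasicoherent := inferInstance
    haveI : SheafOfModules.IsFiniteType (R := X'.ringCatSheaf)
        ((Scheme.Modules.pullback b).obj F) := inferInstance
    have h𝓔 : (Fitt.sheafIdeal F r).comap b =
        Fitt.sheafIdeal ((Scheme.Modules.pullback b).obj F) r :=
      Groth.Agent.H44.fitt_sheafIdeal_comap b F r
    have hE : BlowUp.IsEffCartierIdeal ((Fitt.sheafIdeal F r).comap b) := hb.1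
    haveI : Epi π := hG.1
    have hπ : KerCond ((Fitt.sheafIdeal F r).comap b) π := hG.2
    have hGq : G.IsQuasicoherent := isQuasicoherent_target hE hπ
    haveI := hGq
    have hGft : SheafOfModules.IsFiniteType (R := X'.ringCatSheaf) G :=
      Groth.Agent.H71.QCoh.isFiniteType_of_epi π
    haveI := hGft
    have hfreeG : FlatMod.IsFinLocFreeOfRank r G := by
      rw [Groth.Agent.S8875.result X' G hGq hGft r]
      constructor
      · intro j hj
        refine sheafIdeal_target_eq_bot hE hπ j (fun i => ?_)
        rw [← Groth.Agent.H44.fitt_sheafIdeal_comap b F j, hFj j hj,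
          Scheme.IdealSheafData.comap_bot]
        rfl
      · intro j hj
        rw [← top_le_iff, ← sheafIdeal_target_eq_top hE hπ r h𝓔]
        exact Groth.Agent.H71.FittStrat.sheafIdeal_mono G hj
    have hinjK : ∀ W : X'.Opens, Function.Injective ((kernel.ι π).app W) := fun W =>
      Groth.Agent.H12.QCohAbelian.app_injective_of_mono (kernel.ι π) W
    have hzero : ∀ (W : X'.Opens) (y : Γ(kernel π, W)),
        π.app W ((kernel.ι π).app W y) = 0 := by
      intro W y
      have : (kernel.ι π).app W ≫ π.app W = 0 := by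
        rw [← Scheme.Modules.Hom.comp_app, kernel.condition]
        rfl
      exact congrArg (fun k => k.hom y) this
    haveI hKq : (kernel π).IsQuasicoherent := isQuasicoherent_kernel hE hπ
    have hGlf : FlatMod.IsFinLocFree G := fun x => by
      obtain ⟨U', hx, e⟩ := hfreeG x
      exact ⟨U', r, hx, e⟩
    refine ⟨hfreeG, ?_, ?_⟩
    · refine Groth.Agent.H71.QCoh.isFinitePresentation_of_finitePresentation_sections (kernel π)
        (fun i : Charts ((Fitt.sheafIdeal F r).comap b) => i.1.1) (iSup_charts hE)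
        (fun i => i.1.2) ?_
      rintro ⟨V, f, hf0, hf⟩
      haveI : Module.FinitePresentation Γ(X', V.1) Γ((Scheme.Modules.pullback b).obj F, V.1) :=
        Groth.Agent.H44.finitePresentation_sections_of_isFinitePresentation _ V.2
      haveI : Module.Projective Γ(X', V.1) Γ(G, V.1) :=
        (Groth.Agent.H44.finite_projective_of_isFinLocFree G hGlf V.2).2
      haveI := finitePresentation_ker_of_projective (appLin π V.1) (app_surjective hE hπ V)
      let e : Γ(kernel π, V.1) ≃ₗ[Γ(X', V.1)] LinearMap.ker (appLin π V.1) :=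
        LinearEquiv.ofBijective
          (LinearMap.codRestrict _ (appLin (kernel.ι π) V.1) (fun y => by
            rw [LinearMap.mem_ker]
            exact hzero V.1 y))
          ⟨fun y y' h => hinjK V.1 (congrArg Subtype.val h), fun z => by
            have hz : appLin π V.1 z.1 = 0 := LinearMap.mem_ker.mp z.2
            obtain ⟨y, hy⟩ := Groth.Agent.H71.QCoh.exists_app_kernel_ι_eq π V.1 z.1 hz
            exact ⟨y, Subtype.ext hy⟩⟩
      exact Module.FinitePresentation.of_equiv e.symm
    · haveI : ((kernel π).restrict (b ⁻¹ᵁ U).ι).IsQuasicoherent := inferInstance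
      have hcomap : ((Fitt.sheafIdeal F r).comap b).comap (b ⁻¹ᵁ U).ι =
          (⊤ : X'.IdealSheafData).comap (b ⁻¹ᵁ U).ι := by
        rw [← Scheme.IdealSheafData.comap_comp, ← morphismRestrict_ι b U,
          Scheme.IdealSheafData.comap_comp, htop, Scheme.IdealSheafData.comap_top,
          Scheme.IdealSheafData.comap_top]
      refine Groth.Agent.H71.QCoh.isZero_of_subsingleton_sections_cover _
        (fun W' : (↑(b ⁻¹ᵁ U) : Scheme.{u}).affineOpens => W'.1) ?_ (fun W' => W'.2) ?_
      · intro x
        obtain ⟨_, ⟨W', hW', rfl⟩, hxW', -⟩ :=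
          (↑(b ⁻¹ᵁ U) : Scheme.{u}).isBasis_affineOpens.exists_subset_of_mem_open
            (Set.mem_univ x) isOpen_univ
        exact ⟨⟨W', hW'⟩, hxW'⟩
      · intro W'
        let W : X'.affineOpens :=
          ⟨(b ⁻¹ᵁ U).ι ''ᵁ W'.1, W'.2.image_of_isOpenImmersion (b ⁻¹ᵁ U).ι⟩
        have hWle : W.1 ≤ b ⁻¹ᵁ U := by
          have := (b ⁻¹ᵁ U).ι.image_le_opensRange W'.1
          rwa [Scheme.Opens.opensRange_ι] at this
        have h𝓔W : ((Fitt.sheafIdeal F r).comap b).ideal W = ⊤ := by
          rw [ideal_eq_of_comap_ι_eq _ ⊤ (b ⁻¹ᵁ U) hcomap W hWle]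
          rfl
        have hall : ∀ y : Γ(kernel π, W.1), y = 0 := by
          intro y
          apply hinjK W.1
          rw [map_zero]
          obtain ⟨n, hn⟩ := (hπ W _).mp (hzero W.1 y)
          have h1 : (1 : Γ(X', W.1)) ∈ (((Fitt.sheafIdeal F r).comap b) ^ n).ideal W := by
            rw [Scheme.IdealSheafData.ideal_pow, Pi.pow_apply, h𝓔W, Ideal.top_pow]
            trivial
          have h2 := hn 1 h1
          rwa [one_smul] at h2
        exact ⟨fun y y' => (hall y).trans (hall y').symm⟩

end Groth.Agent.H71.Strict
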