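import Groth.Agent.H71.Strict.Kernel
import Groth.Agent.H44.FittComap
import Groth.Agent.H82.FittBlow2
import Groth.Agent.S8874
import Groth.Agent.S8875

/-!
helper71: Fitting ideals of a strict transform.  If `Fit_k(F) = 𝓔` is an effective Cartier ideal
and `π : F ⟶ G` is a strict-transform map with respect to `𝓔`, then `Fit_k(G) = O_X`, so `G` is
locally generated by `k` sections.
-/

set_option autoImplicit false
universe u
open CategoryTheory CategoryTheory.Limits AlgebraicGeometry TopologicalSpace Opposite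

namespace Groth.Agent.H71.Strict

open Groth.Agent.H18 Groth.Agent.H92.LocFreeRank

variable {X : Scheme.{u}} {𝓔 : X.IdealSheafData} {F G : X.Modules} {π : F ⟶ G}

/-- on a principal chart with `Fit_k(F)(V) = (f)` the sections of the strict transform have
`Fit_k = ⊤` -/
theorem fitt_sections_eq_top [F.IsQuasicoherent]
    [SheafOfModules.IsFiniteType (R := X.ringCatSheaf) F] [Epi π]
    (hE : BlowUp.IsEffCartierIdeal 𝓔) (hπ : KerCond 𝓔 π) (k : ℕ) (V : X.affineOpens)
    (f : Γ(X, V.1)) (hf : 𝓔.ideal V = Ideal.span {f})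
    (hFit : Fitt.ideal Γ(X, V.1) Γ(F, V.1) k = Ideal.span {f}) :
    Fitt.ideal Γ(X, V.1) Γ(G, V.1) k = ⊤ := by
  haveI : Module.Finite Γ(X, V.1) Γ(F, V.1) :=
    Groth.Agent.H44.finite_sections_of_isFiniteType F V.2
  have h2 := Groth.Agent.H82.FittSplit.fitt_quot_eq_top Γ(F, V.1) k f hFit
  have hle : Groth.Agent.H82.FittSplit.tors Γ(F, V.1) f ≤ LinearMap.ker (appLin π V.1) := by
    intro m hm
    rw [LinearMap.mem_ker, appLin_apply]
    exact (app_eq_zero_iff hπ V f hf m).mpr
      ⟨1, by rw [pow_one]; exact (Groth.Agent.H82.FittSplit.mem_tors _ _ _).mp hm⟩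
  have hsurj : Function.Surjective
      ((Groth.Agent.H82.FittSplit.tors Γ(F, V.1) f).liftQ (appLin π V.1) hle) := by
    intro y
    obtain ⟨m, hm⟩ := app_surjective hE hπ V y
    exact ⟨Submodule.Quotient.mk m, hm⟩
  have := Groth.Agent.Lead.fitt_ideal_le_of_surjective' _ hsurj k
  rw [h2] at this
  exact top_le_iff.mp this

/-- **the strict transform along the blow-up in `Fit_k(F)` is locally generated by `k` sections** -/
theorem exists_epi_freeMod (S : Scheme.{u}) (F : S.Modules) (hF : Coh.IsQCoh F)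
    (hft : CohB1.IsFT F) (k : ℕ) {S' : Scheme.{u}} (b : S' ⟶ S)
    (hb : BlowUp.IsBlowUp b (Fitt.sheafIdeal F k)) (G : S'.Modules)
    (π : (Scheme.Modules.pullback b).obj F ⟶ G)
    (hG : BlowUp.IsStrictTransform b (Fitt.sheafIdeal F k) F G π) (s' : ↥S') :
    ∃ U : S'.Opens, s' ∈ U ∧ ∃ q : FlatMod.freeMod (↑U) k ⟶ G.restrict U.ι, Epi q := by
  haveI : F.IsQuasicoherent := hF
  haveI : SheafOfModules.IsFiniteType (R := S.ringCatSheaf) F := hft
  haveI : ((Scheme.Modules.pullback b).obj F).IsQuasicoherent := inferInstance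
  haveI : SheafOfModules.IsFiniteType (R := S'.ringCatSheaf) ((Scheme.Modules.pullback b).obj F) :=
    inferInstance
  have h𝓔 : (Fitt.sheafIdeal F k).comap b = Fitt.sheafIdeal ((Scheme.Modules.pullback b).obj F) k :=
    Groth.Agent.H44.fitt_sheafIdeal_comap b F k
  have hE : BlowUp.IsEffCartierIdeal ((Fitt.sheafIdeal F k).comap b) := hb.1
  haveI : Epi π := hG.1
  have hπ : KerCond ((Fitt.sheafIdeal F k).comap b) π := hG.2
  have hGq : G.IsQuasicoherent := isQuasicoherent_target hE hπ
  haveI := hGq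
  have hGft : SheafOfModules.IsFiniteType (R := S'.ringCatSheaf) G :=
    Groth.Agent.H71.QCoh.isFiniteType_of_epi π
  haveI := hGft
  rw [Groth.Agent.S8874.result S' G hGq hGft s' k]
  obtain ⟨V, hsV, f, -, hf⟩ := hE s'
  have hFit : Fitt.ideal Γ(S', V.1) Γ((Scheme.Modules.pullback b).obj F, V.1) k =
      Ideal.span {f} := by
    rw [← Groth.Agent.H44.sheafIdeal_ideal ((Scheme.Modules.pullback b).obj F) k V, ← h𝓔, hf]
  have htop := fitt_sections_eq_top hE hπ k V f hf hFit
  rw [← Groth.Agent.H44.sheafIdeal_ideal G k V] at htop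
  intro hs
  rw [Groth.Agent.H8.mem_support_iff_le_primeIdealOf _ V.2 s' hsV, htop] at hs
  exact (V.2.primeIdealOf ⟨s', hsV⟩).isPrime.ne_top (top_le_iff.mp hs)

end Groth.Agent.H71.Strict
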