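import Groth.Agent.H71.Strict.Fitt
import Groth.Agent.H71.FittStrat.Rank
import Groth.Agent.H44.ComapAffine

/-!
helper71: the strict transform along the blow-up in `Fit_k(F)` is locally free of rank `k` when `F`
is locally free of rank `k` outside `V(Fit_k(F))`.
-/

set_option autoImplicit false
universe u
open CategoryTheory CategoryTheory.Limits AlgebraicGeometry TopologicalSpace Opposite

namespace Groth.Agent.H71.Strict

open Groth.Agent.H18 Groth.Agent.H92.LocFreeRank

variable {X : Scheme.{u}} {𝓔 : X.IdealSheafData} {F G : X.Modules} {π : F ⟶ G}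

theorem ker_appLin_eq (hπ : KerCond 𝓔 π) (V : X.affineOpens) (f : Γ(X, V.1))
    (hf : 𝓔.ideal V = Ideal.span {f}) :
    LinearMap.ker (appLin π V.1) = FlatCA.powTorsion Γ(X, V.1) f Γ(F, V.1) := by
  ext m
  rw [LinearMap.mem_ker, appLin_apply, Groth.Agent.H82.FittBlow.mem_powTorsion]
  exact app_eq_zero_iff hπ V f hf m

/-- sections of the strict transform over a principal chart -/
noncomputable def sectionsEquiv [F.IsQuasicoherent] [Epi π] (hE : BlowUp.IsEffCartierIdeal 𝓔)
    (hπ : KerCond 𝓔 π) (V : X.affineOpens) (f : Γ(X, V.1)) (hf : 𝓔.ideal V = Ideal.span {f}) :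
    (Γ(F, V.1) ⧸ FlatCA.powTorsion Γ(X, V.1) f Γ(F, V.1)) ≃ₗ[Γ(X, V.1)] Γ(G, V.1) :=
  (Submodule.quotEquivOfEq _ _ (ker_appLin_eq hπ V f hf).symm).trans
    ((appLin π V.1).quotKerEquivOfSurjective (app_surjective hE hπ V))

/-- the charts of an effective Cartier ideal -/
abbrev Charts (𝓔 : X.IdealSheafData) : Type u :=
  {V : X.affineOpens // ∃ f : Γ(X, V.1), f ∈ nonZeroDivisors Γ(X, V.1) ∧ 𝓔.ideal V = Ideal.span {f}}

theorem iSup_charts (hE : BlowUp.IsEffCartierIdeal 𝓔) : ⨆ i : Charts 𝓔, (i.1 : X.affineOpens).1 = ⊤ := by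
  rw [eq_top_iff]
  intro x _
  obtain ⟨V, hxV, f, hf0, hf⟩ := hE x
  exact Opens.mem_iSup.mpr ⟨⟨V, f, hf0, hf⟩, hxV⟩

theorem sheafIdeal_target_eq_top [F.IsQuasicoherent]
    [SheafOfModules.IsFiniteType (R := X.ringCatSheaf) F] [Epi π]
    (hE : BlowUp.IsEffCartierIdeal 𝓔) (hπ : KerCond 𝓔 π) (k : ℕ)
    (h𝓔 : 𝓔 = Fitt.sheafIdeal F k) : Fitt.sheafIdeal G k = ⊤ := by
  haveI : G.IsQuasicoherent := isQuasicoherent_target hE hπ
  haveI : SheafOfModules.IsFiniteType (R := X.ringCatSheaf) G :=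
    Groth.Agent.H71.QCoh.isFiniteType_of_epi π
  refine Scheme.IdealSheafData.ext_of_iSup_eq_top (fun i : Charts 𝓔 => i.1) (iSup_charts hE) ?_
  rintro ⟨V, f, hf0, hf⟩
  rw [Groth.Agent.H44.sheafIdeal_ideal G k V, Scheme.IdealSheafData.ideal_top]
  refine fitt_sections_eq_top hE hπ k V f hf ?_
  rw [← Groth.Agent.H44.sheafIdeal_ideal F k V, ← h𝓔, hf]

theorem sheafIdeal_target_eq_bot [F.IsQuasicoherent]
    [SheafOfModules.IsFiniteType (R := X.ringCatSheaf) F] [Epi π]
    (hE : BlowUp.IsEffCartierIdeal 𝓔) (hπ : KerCond 𝓔 π) (j : ℕ)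
    (hj : ∀ i : Charts 𝓔, (Fitt.sheafIdeal F j).ideal i.1 = ⊥) : Fitt.sheafIdeal G j = ⊥ := by
  haveI : G.IsQuasicoherent := isQuasicoherent_target hE hπ
  haveI : SheafOfModules.IsFiniteType (R := X.ringCatSheaf) G :=
    Groth.Agent.H71.QCoh.isFiniteType_of_epi π
  refine Scheme.IdealSheafData.ext_of_iSup_eq_top (fun i : Charts 𝓔 => i.1) (iSup_charts hE) ?_
  rintro ⟨V, f, hf0, hf⟩
  have h1 := hj ⟨V, f, hf0, hf⟩
  rw [Groth.Agent.H44.sheafIdeal_ideal F j V] at h1
  haveI : Module.Finite Γ(X, V.1) Γ(F, V.1) :=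
    Groth.Agent.H44.finite_sections_of_isFiniteType F V.2
  rw [Groth.Agent.H44.sheafIdeal_ideal G j V, Scheme.IdealSheafData.ideal_bot,
    ← Groth.Agent.Lead.fitt_ideal_congr (sectionsEquiv hE hπ V f hf) j]
  exact Groth.Agent.H82.FittBlow.fitt_powquot_eq_bot Γ(F, V.1) j f hf0 h1

/-- an ideal sheaf which vanishes on `D(f)`, `f` a nonzerodivisor on the affine open `V`,
vanishes on `V` -/
theorem ideal_eq_bot_of_basicOpen (J : X.IdealSheafData) (V : X.affineOpens) (f : Γ(X, V.1))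
    (hf0 : f ∈ nonZeroDivisors Γ(X, V.1)) (hJ : J.ideal (X.affineBasicOpen f) = ⊥) :
    J.ideal V = ⊥ := by
  rw [eq_bot_iff]
  intro d hd
  let _ : Algebra Γ(X, V.1) Γ(X, X.basicOpen f) :=
    (X.presheaf.map (homOfLE (X.basicOpen_le f)).op).hom.toAlgebra
  have hloc : IsLocalization.Away f Γ(X, X.basicOpen f) := V.2.isLocalization_basicOpen f
  have h1 : algebraMap Γ(X, V.1) Γ(X, X.basicOpen f) d ∈ J.ideal (X.affineBasicOpen f) := by
    rw [← J.map_ideal_basicOpen V f]
    exact Ideal.mem_map_of_mem _ hd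
  rw [hJ] at h1
  have h1' : algebraMap Γ(X, V.1) Γ(X, X.basicOpen f) d = 0 := h1
  obtain ⟨⟨_, n, rfl⟩, hn⟩ := (IsLocalization.map_eq_zero_iff (Submonoid.powers f)
    Γ(X, X.basicOpen f) d).mp h1'
  rw [Ideal.mem_bot]
  exact (mem_nonZeroDivisors_iff_right.mp (pow_mem hf0 n)) d (by rw [mul_comm]; exact hn)

/-- the inverse image of an ideal sheaf which vanishes outside `V(I)` vanishes on affine opens
outside the inverse image of `V(I)` -/
theorem ideal_comap_eq_bot {S S' : Scheme.{u}} (b : S' ⟶ S) (J I : S.IdealSheafData)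
    (hJ : J.comap (Scheme.Opens.ι I.support.compl) = ⊥) (W : S'.affineOpens)
    (hW : ∀ x ∈ W.1, x ∉ (I.comap b).support) : (J.comap b).ideal W = ⊥ := by
  have hrange : Set.range (W.1.ι ≫ b) ⊆ Set.range (Scheme.Opens.ι I.support.compl) := by
    rintro _ ⟨x, rfl⟩
    rw [Scheme.Opens.range_ι]
    have := hW x.1 x.2
    rw [Scheme.IdealSheafData.support_comap] at this
    exact this
  have h1 : (J.comap b).comap W.1.ι = ⊥ := by
    rw [← Scheme.IdealSheafData.comap_comp, ← IsOpenImmersion.lift_fac _ _ hrange,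
      Scheme.IdealSheafData.comap_comp, hJ, Scheme.IdealSheafData.comap_bot]
  have h2 := Groth.Agent.H44.ideal_comap_ι_top (J.comap b) W
  rw [h1] at h2
  have hsurj : Function.Surjective W.1.topIso.hom.hom :=
    (ConcreteCategory.bijective_of_isIso W.1.topIso.hom).2
  rw [← Ideal.map_comap_of_surjective _ hsurj ((J.comap b).ideal W), ← h2]
  exact Ideal.map_bot

/-- **the strict transform along the blow-up in `Fit_k(F)` is locally free of rank `k`** -/
theorem isFinLocFreeOfRank_strict (S : Scheme.{u}) (F : S.Modules) (hF : Coh.IsQCoh F)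
    (hft : CohB1.IsFT F) (k : ℕ)
    (hfree : FlatMod.IsFinLocFreeOfRank k
      (F.restrict (Scheme.Opens.ι (Fitt.sheafIdeal F k).support.compl)))
    {S' : Scheme.{u}} (b : S' ⟶ S) (hb : BlowUp.IsBlowUp b (Fitt.sheafIdeal F k)) (G : S'.Modules)
    (π : (Scheme.Modules.pullback b).obj F ⟶ G)
    (hG : BlowUp.IsStrictTransform b (Fitt.sheafIdeal F k) F G π) :
    FlatMod.IsFinLocFreeOfRank k G := by
  haveI : F.IsQuasicoherent := hF
  haveI : SheafOfModules.IsFiniteType (R := S.ringCatSheaf) F := hft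
  haveI : ((Scheme.Modules.pullback b).obj F).IsQuasicoherent := inferInstance
  haveI : SheafOfModules.IsFiniteType (R := S'.ringCatSheaf) ((Scheme.Modules.pullback b).obj F) :=
    inferInstance
  have h𝓔 : (Fitt.sheafIdeal F k).comap b = Fitt.sheafIdeal ((Scheme.Modules.pullback b).obj F) k :=
    Groth.Agent.H44.fitt_sheafIdeal_comap b F k
  have hE : BlowUp.IsEffCartierIdeal ((Fitt.sheafIdeal F k).comap b) := hb.1
  haveI : Epi π := hG.1
  have hπ : KerCond ((Fitt.sheafIdeal F k).comap b) π := hG.2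
  have hGq : G.IsQuasicoherent := isQuasicoherent_target hE hπ
  haveI := hGq
  have hGft : SheafOfModules.IsFiniteType (R := S'.ringCatSheaf) G :=
    Groth.Agent.H71.QCoh.isFiniteType_of_epi π
  haveI := hGft
  -- local freeness outside the centre, in terms of Fitting ideals
  have hloc : FlatMod.IsFinLocFreeOfRank k
      ((Scheme.Modules.pullback (Scheme.Opens.ι (Fitt.sheafIdeal F k).support.compl)).obj F) := by
    intro x
    obtain ⟨U, hxU, ⟨e⟩⟩ := hfree x
    exact ⟨U, hxU, ⟨(Scheme.Modules.restrictFunctor U.ι).mapIso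
      ((Scheme.Modules.restrictFunctorIsoPullback
        (Scheme.Opens.ι (Fitt.sheafIdeal F k).support.compl)).app F).symm ≪≫ e⟩⟩
  obtain ⟨-, hlow⟩ := (Groth.Agent.H71.FittStrat.isFinLocFreeOfRank_pullback_iff F k
    (Scheme.Opens.ι (Fitt.sheafIdeal F k).support.compl)).mp hloc
  rw [Groth.Agent.S8875.result S' G hGq hGft k]
  constructor
  · intro j hj
    refine sheafIdeal_target_eq_bot hE hπ j ?_
    rintro ⟨V, f, hf0, hf⟩
    have hk : k ≠ 0 := by omega
    have hle : Fitt.sheafIdeal ((Scheme.Modules.pullback b).obj F) j ≤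
        (Groth.Agent.H71.FittStrat.lowerIdeal F k).comap b := by
      rw [← Groth.Agent.H44.fitt_sheafIdeal_comap b F j]
      apply Scheme.IdealSheafData.comap_mono
      unfold Groth.Agent.H71.FittStrat.lowerIdeal
      rw [if_neg hk]
      exact Groth.Agent.H71.FittStrat.sheafIdeal_mono F (by omega)
    rw [eq_bot_iff]
    refine (hle V).trans (le_of_eq ?_)
    refine ideal_eq_bot_of_basicOpen _ V f hf0
      (ideal_comap_eq_bot b _ (Fitt.sheafIdeal F k) hlow (S'.affineBasicOpen f) ?_)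
    intro x hx hxs
    have hxV : x ∈ V.1 := S'.basicOpen_le f hx
    rw [Groth.Agent.H8.mem_support_iff_le_primeIdealOf _ V.2 x hxV, hf,
      Ideal.span_singleton_le_iff_mem] at hxs
    exact (Groth.Agent.H8.notMem_primeIdealOf_iff V.2 hxV f).mpr hx hxs
  · intro j hj
    rw [← top_le_iff, ← sheafIdeal_target_eq_top hE hπ k h𝓔]
    exact Groth.Agent.H71.FittStrat.sheafIdeal_mono G hj

end Groth.Agent.H71.Strict
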