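import Groth.Agent.H18.QCohCriterion
import Groth.Agent.H18.QCohLocalize
import Groth.Agent.H12.QCohAbelian
import Groth.Agent.H71.QCoh.Thickening
import Groth.Agent.H71.QCoh.ExactSections
import Groth.Agent.H8.BlowUpBasic
import Groth.Prelude.Def_BlowUp2

/-!
helper71: strict transforms are quasi-coherent.  `π : F ⟶ G` an epimorphism out of a quasi-coherent
module whose kernel consists, on affine opens, of the sections killed by a power of an effective
Cartier ideal `𝓔`.  Then `kernel π` and `G` are quasi-coherent, and on a principal chart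
`𝓔(V) = (f)` the map `π.app V` is surjective with kernel the `f`-power torsion.
-/

set_option autoImplicit false
universe u
open CategoryTheory CategoryTheory.Limits AlgebraicGeometry TopologicalSpace Opposite

namespace Groth.Agent.H71.Strict

open Groth.Agent.H18

variable {X : Scheme.{u}} (𝓔 : X.IdealSheafData) {F G : X.Modules} (π : F ⟶ G)

/-- the kernel condition of a strict transform -/
def KerCond : Prop :=
  ∀ (V : X.affineOpens) (m : F.presheaf.obj (op V.1)),
    π.app V.1 m = 0 ↔ BlowUp.KilledByPowerNear 𝓔 F V m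

theorem killedByPowerNear_iff (V : X.affineOpens) (f : Γ(X, V.1))
    (hf : 𝓔.ideal V = Ideal.span {f}) (M : X.Modules) (m : M.presheaf.obj (op V.1)) :
    BlowUp.KilledByPowerNear 𝓔 M V m ↔ ∃ n : ℕ, f ^ n • m = 0 := by
  unfold BlowUp.KilledByPowerNear
  constructor
  · rintro ⟨n, hn⟩
    refine ⟨n, hn _ ?_⟩
    rw [Scheme.IdealSheafData.ideal_pow, Pi.pow_apply, hf]
    exact Ideal.pow_mem_pow (Ideal.mem_span_singleton_self f) n
  · rintro ⟨n, hn⟩
    refine ⟨n, fun a ha => ?_⟩
    rw [Scheme.IdealSheafData.ideal_pow, Pi.pow_apply, hf, Ideal.span_singleton_pow,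
      Ideal.mem_span_singleton'] at ha
    obtain ⟨c, rfl⟩ := ha
    rw [mul_smul, hn, smul_zero]

/-- a principal generator restricts to basic opens -/
theorem ideal_basicOpen_eq_span (V : X.affineOpens) (f : Γ(X, V.1))
    (hf : 𝓔.ideal V = Ideal.span {f}) (r : Γ(X, V.1)) :
    𝓔.ideal (X.affineBasicOpen r) =
      Ideal.span {X.presheaf.map (homOfLE (X.basicOpen_le r)).op f} := by
  rw [← 𝓔.map_ideal_basicOpen V r, hf, Ideal.map_span, Set.image_singleton]

variable {𝓔 π}

/-- the kernel of a strict-transform map is quasi-coherent -/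
theorem isQuasicoherent_kernel [F.IsQuasicoherent] (hE : BlowUp.IsEffCartierIdeal 𝓔)
    (hπ : KerCond 𝓔 π) : (kernel π).IsQuasicoherent := by
  let ι : Type u := {V : X.affineOpens // ∃ f : Γ(X, V.1), 𝓔.ideal V = Ideal.span {f}}
  have hinjK : ∀ W : X.Opens, Function.Injective ((kernel.ι π).app W) := fun W =>
    Groth.Agent.H12.QCohAbelian.app_injective_of_mono (kernel.ι π) W
  have hzero : ∀ (W : X.Opens) (y : Γ(kernel π, W)), π.app W ((kernel.ι π).app W y) = 0 := by
    intro W y
    have : (kernel.ι π).app W ≫ π.app W = 0 := by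
      rw [← Scheme.Modules.Hom.comp_app, kernel.condition]
      rfl
    exact congrArg (fun k => k.hom y) this
  refine isQuasicoherent_of_localizes (kernel π) (fun i : ι => i.1.1) ?_ (fun i => i.1.2) ?_ ?_
  · rw [TopologicalSpace.IsOpenCover, eq_top_iff]
    intro x _
    obtain ⟨V, hxV, f, -, hf⟩ := hE x
    exact Opens.mem_iSup.mpr ⟨⟨V, f, hf⟩, hxV⟩
  · rintro ⟨V, f, hf⟩ r y
    change ∃ (n : ℕ) (x : Γ(kernel π, V.1)),
      (X.presheaf.map (homOfLE (X.basicOpen_le r)).op r) ^ n • y =
        mres (kernel π) (X.basicOpen_le r) x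
    set y' := (kernel.ι π).app (X.basicOpen r) y with hy'
    -- `y'` is killed by a power of `f`
    obtain ⟨e, he⟩ := (killedByPowerNear_iff 𝓔 (X.affineBasicOpen r) _
      (ideal_basicOpen_eq_span 𝓔 V f hf r) F y').mp
      ((hπ (X.affineBasicOpen r) y').mp (hzero _ y))
    obtain ⟨n, x₀, hx₀⟩ := exists_pow_smul_eq_res_of_isQuasicoherent F V.2 r y'
    have h1 : mres F (X.basicOpen_le r) (f ^ e • x₀) = 0 := by
      have he' : (X.presheaf.map (homOfLE (X.basicOpen_le r)).op f) ^ e • y' = 0 := he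
      rw [mres_smul, ← hx₀, map_pow, smul_comm, he', smul_zero]
    obtain ⟨n', hn'⟩ := exists_pow_smul_eq_zero_of_isQuasicoherent F V.2 r _ h1
    have h2 : f ^ e • (r ^ n' • x₀) = 0 := by rw [smul_comm]; exact hn'
    obtain ⟨x, hx⟩ := Groth.Agent.H71.QCoh.exists_app_kernel_ι_eq π V.1 (r ^ n' • x₀)
      ((hπ V _).mpr ((killedByPowerNear_iff 𝓔 V f hf F _).mpr ⟨e, h2⟩))
    refine ⟨n' + n, x, hinjK _ ?_⟩
    rw [← Groth.Agent.H12.QCohExt.app_mres, hx, Scheme.Modules.Hom.app_smul, ← hy', mres_smul,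
      ← hx₀, map_pow, pow_add, mul_smul]
  · rintro ⟨V, f, hf⟩ r x hx
    change ∃ n : ℕ, r ^ n • x = 0
    have h1 : mres F (X.basicOpen_le r) ((kernel.ι π).app V.1 x) = 0 := by
      rw [Groth.Agent.H12.QCohExt.app_mres, hx, map_zero]
    obtain ⟨n, hn⟩ := exists_pow_smul_eq_zero_of_isQuasicoherent F V.2 r _ h1
    refine ⟨n, hinjK _ ?_⟩
    rw [Scheme.Modules.Hom.app_smul, hn, map_zero]

/-- the target of a strict-transform map is quasi-coherent -/
theorem isQuasicoherent_target [F.IsQuasicoherent] [Epi π] (hE : BlowUp.IsEffCartierIdeal 𝓔)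
    (hπ : KerCond 𝓔 π) : G.IsQuasicoherent := by
  haveI := isQuasicoherent_kernel hE hπ
  haveI : (cokernel (kernel.ι π)).IsQuasicoherent :=
    Groth.Agent.H12.QCohAbelian.isQuasicoherent_cokernel (kernel.ι π)
  have e : cokernel (kernel.ι π) ≅ G :=
    IsColimit.coconePointUniqueUpToIso (cokernelIsCokernel (kernel.ι π))
      (Abelian.epiIsCokernelOfKernel (KernelFork.ofι (kernel.ι π) (kernel.condition π))
        (kernelIsKernel π))
  exact (SheafOfModules.isQuasicoherent X.ringCatSheaf).prop_of_iso e ‹_›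

/-- a strict-transform map is surjective on sections over affine opens -/
theorem app_surjective [F.IsQuasicoherent] [Epi π] (hE : BlowUp.IsEffCartierIdeal 𝓔)
    (hπ : KerCond 𝓔 π) (V : X.affineOpens) : Function.Surjective (π.app V.1) :=
  haveI := isQuasicoherent_target hE hπ
  Groth.Agent.H71.QCoh.app_surjective_of_epi π V.2

/-- on a principal chart the kernel of a strict-transform map is the power torsion -/
theorem app_eq_zero_iff (hπ : KerCond 𝓔 π) (V : X.affineOpens) (f : Γ(X, V.1))
    (hf : 𝓔.ideal V = Ideal.span {f}) (m : Γ(F, V.1)) :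
    π.app V.1 m = 0 ↔ ∃ n : ℕ, f ^ n • m = 0 :=
  (hπ V m).trans (killedByPowerNear_iff 𝓔 V f hf F m)

end Groth.Agent.H71.Strict
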