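import Groth.Agent.H71.Strict.KernelLP
import Groth.Agent.H71.BaseChangeAffine
import Groth.Agent.H18.PUP.CoreMod
import Groth.Agent.Lead.Coh.IdealMul

/-!
helper71: strict transforms commute with direct images along affine morphisms.
-/

set_option autoImplicit false
universe u
open CategoryTheory CategoryTheory.Limits AlgebraicGeometry TopologicalSpace Opposite

namespace Groth.Agent.H71.Strict

open Groth.Agent.H18 Groth.Agent.H71.BaseChange

/-- a morphism of modules which is surjective on sections over affine opens is an epimorphism -/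
theorem epi_of_app_surjective_affine {X : Scheme.{u}} {M N : X.Modules} (φ : M ⟶ N)
    (h : ∀ U : X.Opens, IsAffineOpen U → Function.Surjective (φ.app U)) : Epi φ := by
  apply Abelian.epi_of_cokernel_π_eq_zero
  refine Groth.Agent.Lead.IdealMul.hom_ext_affine _ _ (fun U hU s => ?_)
  obtain ⟨t, rfl⟩ := h U hU s
  have h1 : (φ ≫ cokernel.π φ).app U t = 0 := by
    rw [cokernel.condition]; rfl
  rw [Scheme.Modules.Hom.comp_app, ConcreteCategory.comp_apply] at h1
  rw [h1]; rfl

section Transfer

variable {X Y : Scheme.{u}} (r : X ⟶ Y) [IsAffineHom r] (𝓔 : Y.IdealSheafData)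
  {N : Y.Modules} {M M' : X.Modules}

/-- transfer of the power-torsion condition along an injective `O_Y`-linear map into a direct
image -/
theorem killedByPowerNear_transfer (β : N ⟶ (Scheme.Modules.pushforward r).obj M)
    (W : Y.affineOpens) (hinj : Function.Injective (β.app W.1)) (m : Γ(N, W.1)) :
    BlowUp.KilledByPowerNear (𝓔.comap r) M ⟨r ⁻¹ᵁ W.1, W.2.preimage r⟩ (β.app W.1 m) ↔
      BlowUp.KilledByPowerNear 𝓔 N W m := by
  have hideal : ∀ n : ℕ, ((𝓔.comap r) ^ n).ideal ⟨r ⁻¹ᵁ W.1, W.2.preimage r⟩ =
      ((𝓔 ^ n).ideal W).map (r.app W.1).hom := by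
    intro n
    rw [Scheme.IdealSheafData.ideal_pow, Pi.pow_apply,
      Groth.Agent.H44.ideal_comap_of_le 𝓔 r ⟨r ⁻¹ᵁ W.1, W.2.preimage r⟩ W le_rfl,
      Scheme.Hom.appLE_eq_app, ← Ideal.map_pow, Scheme.IdealSheafData.ideal_pow, Pi.pow_apply]
  unfold BlowUp.KilledByPowerNear
  constructor
  · rintro ⟨n, hn⟩
    refine ⟨n, fun a' ha' => hinj ?_⟩
    rw [map_zero, Groth.Agent.H18.PUP.push_app_smul]
    apply hn
    rw [hideal]
    exact Ideal.mem_map_of_mem _ ha'
  · rintro ⟨n, hn⟩
    refine ⟨n, fun a ha => ?_⟩
    rw [hideal] at ha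
    change a ∈ Submodule.span _ _ at ha
    induction ha using Submodule.span_induction with
    | mem x hx =>
      obtain ⟨a', ha', rfl⟩ := hx
      have := Groth.Agent.H18.PUP.push_app_smul β a' m
      rw [hn a' ha', map_zero] at this
      exact this.symm
    | zero => exact zero_smul _ _
    | add x y _ _ hx hy => rw [add_smul, hx, hy, add_zero]
    | smul c x _ hx => rw [smul_eq_mul, mul_smul, hx, smul_zero]

end Transfer

section Main

variable {X Y S S' : Scheme.{u}} (hX : X ⟶ S) (hY : Y ⟶ S) (g : X ⟶ Y) (h : g ≫ hY = hX)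
  (b : S' ⟶ S)

/-- the base change of `g` -/
noncomputable abbrev gmap : pullback hX b ⟶ pullback hY b :=
  pullback.map hX b hY b g (𝟙 S') (𝟙 S) ((Category.comp_id hX).trans h.symm)
    ((Category.comp_id b).trans (Category.id_comp b).symm)

theorem isPullback_gmap :
    IsPullback (pullback.fst hX b) (gmap hX hY g h b) g (pullback.fst hY b) := by
  have hbig : IsPullback (pullback.fst hX b) (gmap hX hY g h b ≫ pullback.snd hY b) (g ≫ hY) b := by
    have h1 : gmap hX hY g h b ≫ pullback.snd hY b = pullback.snd hX b := by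
      rw [pullback.lift_snd, Category.comp_id]
    rw [h1, h]
    exact IsPullback.of_hasPullback hX b
  refine IsPullback.of_bot hbig ?_ (IsPullback.of_hasPullback hY b)
  rw [pullback.lift_fst]

variable [IsAffineHom g] (𝓘 : S.IdealSheafData)

omit [IsAffineHom g] in
include h in
theorem exceptional_eq :
    BlowUp.exceptional (pullback.fst hX b) (𝓘.comap hX) =
      (BlowUp.exceptional (pullback.fst hY b) (𝓘.comap hY)).comap (gmap hX hY g h b) := by
  unfold BlowUp.exceptional
  rw [← Scheme.IdealSheafData.comap_comp, ← Scheme.IdealSheafData.comap_comp,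
    ← Scheme.IdealSheafData.comap_comp, ← (isPullback_gmap hX hY g h b).w, Category.assoc, h]

theorem isLocPrincipal_exceptional (hE : BlowUp.IsEffCartierIdeal (𝓘.comap b)) :
    IsLocPrincipal (BlowUp.exceptional (pullback.fst hY b) (𝓘.comap hY)) := by
  have : BlowUp.exceptional (pullback.fst hY b) (𝓘.comap hY) =
      (𝓘.comap b).comap (pullback.snd hY b) := by
    unfold BlowUp.exceptional
    rw [← Scheme.IdealSheafData.comap_comp, ← Scheme.IdealSheafData.comap_comp,
      pullback.condition]
  rw [this]
  exact (IsLocPrincipal.of_isEffCartier hE).comap _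

/-- **strict transforms commute with affine direct images** -/
theorem strictTransform_pushforward (hE : BlowUp.IsEffCartierIdeal (𝓘.comap b))
    (F : X.Modules) [F.IsQuasicoherent]
    (F' : (pullback hX b).Modules) (π : (Scheme.Modules.pullback (pullback.fst hX b)).obj F ⟶ F')
    (hπ : BlowUp.IsStrictTransform (pullback.fst hX b) (𝓘.comap hX) F F' π) :
    ∃ π' : (Scheme.Modules.pullback (pullback.fst hY b)).obj
        ((Scheme.Modules.pushforward g).obj F) ⟶
        (Scheme.Modules.pushforward (gmap hX hY g h b)).obj F',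
      BlowUp.IsStrictTransform (pullback.fst hY b) (𝓘.comap hY)
        ((Scheme.Modules.pushforward g).obj F)
        ((Scheme.Modules.pushforward (gmap hX hY g h b)).obj F') π' := by
  have hsq := isPullback_gmap hX hY g h b
  haveI : IsAffineHom (gmap hX hY g h b) :=
    MorphismProperty.of_isPullback hsq (inferInstance : IsAffineHom g)
  haveI hiso : IsIso (bc g (pullback.fst hY b) (pullback.fst hX b) (gmap hX hY g h b) hsq.w F) :=
    isIso_bc_of_isAffineHom hsq F
  set β := bc g (pullback.fst hY b) (pullback.fst hX b) (gmap hX hY g h b) hsq.w F with hβ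
  haveI : Epi π := hπ.1
  have hEY := isLocPrincipal_exceptional hY b 𝓘 hE
  have hEX : IsLocPrincipal (BlowUp.exceptional (pullback.fst hX b) (𝓘.comap hX)) := by
    rw [exceptional_eq hX hY g h b 𝓘]
    exact hEY.comap _
  have hK : KerCond (BlowUp.exceptional (pullback.fst hX b) (𝓘.comap hX)) π := hπ.2
  haveI : ((Scheme.Modules.pullback (pullback.fst hX b)).obj F).IsQuasicoherent := inferInstance
  have hβbij : ∀ W : (pullback hY b).Opens, Function.Bijective (β.app W) := fun W =>
    haveI : IsIso (β.app W) := (Scheme.Modules.Hom.isIso_iff_isIso_app (φ := β)).1 hiso W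
    ConcreteCategory.bijective_of_isIso (β.app W)
  refine ⟨β ≫ (Scheme.Modules.pushforward (gmap hX hY g h b)).map π, ?_, ?_⟩
  · haveI : Epi ((Scheme.Modules.pushforward (gmap hX hY g h b)).map π) := by
      apply epi_of_app_surjective_affine
      intro W hW
      exact app_surjective_lp hEX hK (hW.preimage (gmap hX hY g h b))
    exact epi_comp _ _
  · intro W m
    have h1 : (β ≫ (Scheme.Modules.pushforward (gmap hX hY g h b)).map π).app W.1 m =
        π.app (gmap hX hY g h b ⁻¹ᵁ W.1) (β.app W.1 m) := by
      rw [Scheme.Modules.Hom.comp_app, ConcreteCategory.comp_apply]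
      rfl
    rw [h1]
    have h2 := hK ⟨gmap hX hY g h b ⁻¹ᵁ W.1, W.2.preimage (gmap hX hY g h b)⟩ (β.app W.1 m)
    rw [exceptional_eq hX hY g h b 𝓘] at h2
    exact h2.trans (killedByPowerNear_transfer (gmap hX hY g h b)
      (BlowUp.exceptional (pullback.fst hY b) (𝓘.comap hY)) β W (hβbij W.1).1 m)

end Main

end Groth.Agent.H71.Strict
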